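import Cfsg.Agent.H594.VzCen
import Cfsg.Agent.H654.Van.TwF4
import Cfsg.Agent.KFacts.TwF4.SylU
import Cfsg.Agent.H620.PNorm

/-!
# S4555, S4559: the row of `²F₄(q)` (helper387)

* `vz_torus` : `h 1 d`, `d ≠ 1`, is a `VZ` element;
* `vOrdP_twF4`, `row`, `row_pow`.
-/

set_option autoImplicit false
set_option linter.unusedSectionVars false

namespace Cfsg.Agent.H387.VO2.TwFFour

open Cfsg Cfsg.Lie
open Cfsg.Agent.KFacts.TwF4 Cfsg.Agent.TitsThree.RankTwoZ Cfsg.Agent.H594.VzCen Cfsg.Agent.FixBN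
open Cfsg.Agent.SplitTwo Cfsg.Agent.SplitTwo.ZS Cfsg.Agent.KFacts.TwF4.SylU
open Cfsg.Agent.H620 Cfsg.Agent.H620.PNorm Cfsg.Agent.H654.Van.TwF4 Cfsg.Agent.H42.Deg.F4Two

universe u

section torus

variable {F : Type*} [Field F] {σ : F →+* F} {G : Type u} [Group G] (S : Full σ G)

/-- `Z(U)` -/
theorem cen_U : cen (J S.XZ 1 8) = S.Zc 2 := by
  ext z
  rw [mem_cen]
  constructor
  · rintro ⟨hz, hc⟩
    rw [← S.centralizer_Q, Subgroup.mem_centralizer_iff]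
    intro x hx
    exact (hc x (J_mono le_rfl (by norm_num) hx)).symm
  · intro hz
    refine ⟨?_, fun w hw => (S.comm_PL (J_mono (by norm_num) le_rfl hw) hz).symm⟩
    have h1 : z ∈ S.XZ 4 := S.Zc_le 2 hz
    exact X_le_J (by norm_num) (by norm_num) h1

theorem n2_nor : S.n2 ∈ nor (J S.XZ 1 8) := by
  rw [mem_nor, cen_U S]
  have key : ∀ z, z ∈ S.Zc 2 → S.n2 * z * S.n2⁻¹ = z := by
    intro z hz
    obtain ⟨u, rfl⟩ := S.mem_Zc.1 hz
    rw [S.n2_e]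
    rfl
  intro z
  constructor
  · intro hz
    rw [key z hz]
    exact hz
  · intro hz
    have h1 := key _ hz
    have hi : S.n2⁻¹ = S.n2 := inv_eq_of_mul_eq_one_left S.n2_sq
    have h2 : S.n2 * (S.n2 * z * S.n2⁻¹) * S.n2⁻¹ = z := by
      rw [hi]
      calc S.n2 * (S.n2 * z * S.n2) * S.n2 = (S.n2 * S.n2) * z * (S.n2 * S.n2) := by group
        _ = z := by rw [S.n2_sq]; simp
    rw [h2] at h1
    rw [h1]
    exact hz

/-- the elements `h 1 d`, `d ≠ 1` -/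
theorem vz_torus [Finite F] [Finite G] [IsSimpleGroup G] (hF : ∃ c : Fˣ, c ≠ 1) (hR : S.R.p = 2) (hS : HasSplit 2 G) {d : Fˣ}
    (hd : d ≠ 1) : H713.VZ G (S.h 1 d) := by
  have h2 : Fact (Nat.Prime 2) := ⟨Nat.prime_two⟩
  obtain ⟨W, hW⟩ := exists_sylow S hF hR
  have hT : S.h 1 d ∈ S.T := S.mem_T.2 ⟨1, d, rfl⟩
  have hTk : S.h 1 d ∈ S.Tk 0 := S.mem_Tk_zero.2 ⟨d, rfl⟩
  have hne : S.h 1 d ≠ 1 := by
    intro h
    rw [← S.h_one] at h
    exact hd (S.h_inj _ _ _ _ h).2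
  refine vz_of_rad hS W ?_ ?_
  · rw [hW]
    refine normalizer_le_nor fun u => ⟨fun hu => S.T_conj_J hT hu, fun hu => ?_⟩
    have h3 := S.T_conj_J (inv_mem hT) hu
    rw [inv_inv] at h3
    have e : (S.h 1 d)⁻¹ * (S.h 1 d * u * (S.h 1 d)⁻¹) * S.h 1 d = u := by group
    rwa [e] at h3
  · rw [hW]
    intro v hv hc
    rw [mem_rad] at hv
    have h3 : v ∈ J S.XZ 1 8 := by
      have := hv 1 (one_mem _)
      simpa using this
    have h4 : v ∈ S.XZ 8 := S.fix_J_of hT (by norm_num) (fun j h5 h6 h7 x hx he =>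
      S.fpf (k := 0) (j := j) (by omega) hTk hne hx he) h3 (by rw [hc]; group)
    have h5 := hv _ (n2_nor S)
    have hi : S.n2⁻¹ = S.n2 := inv_eq_of_mul_eq_one_left S.n2_sq
    have h6 : S.n2⁻¹ * v * S.n2 ∈ S.XZ 0 := by
      have := S.n2_refl.mem h4
      rw [sub_self] at this
      have e : S.n2⁻¹ * v * S.n2 = S.n2 * v * S.n2⁻¹ := by rw [hi]
      rw [e]
      exact this
    have h7 := (S.J07_inf_UT h6 h5 (one_mem S.T) (by rw [mul_one])).1
    have e : v = S.n2 * (S.n2⁻¹ * v * S.n2) * S.n2⁻¹ := by group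
    rw [e, h7]
    group

theorem orderOf_h [Finite G] (d : Fˣ) : orderOf (S.h 1 d) = orderOf d := by
  rw [orderOf_eq_orderOf_iff]
  intro n
  rw [Arc.h_pow S, one_pow]
  constructor
  · intro h
    rw [← S.h_one] at h
    exact (S.h_inj _ _ _ _ h).2
  · intro h
    rw [h, S.h_one]

end torus

/-- **The row of the group itself.** -/
theorem vOrdP_twF4 {K : Type} [Field K] [Fintype K] {m : ℕ} (hm : 1 ≤ m) (hK : Fintype.card K = 2 ^ (2 * m + 1))
    [Finite ↥(twistedF4 K (2 ^ m))] [IsSimpleGroup ↥(twistedF4 K (2 ^ m))] {p : ℕ} [hpf : Fact p.Prime] (hp2 : p ≠ 2)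
    (hd : p ∣ Nat.card ↥(twistedF4 K (2 ^ m))) : VOrdP p ↥(twistedF4 K (2 ^ m)) := by
  have hpp := hpf.out
  have hiso : Lie.Iso2F4 ↥(twistedF4 K (2 ^ m)) := ⟨K, inferInstance, inferInstance, m, hm, hK, ⟨MulEquiv.refl _⟩⟩
  obtain ⟨n, k, a, b, i, j, χ₁, χ₂, χ₃, hq, hk, hc, hi, hj, d₁, d₂, -⟩ := exists_three hiso
  -- `k + 1 = q`
  have h8 : 2 ^ 3 ≤ 2 ^ (2 * m + 1) := Nat.pow_le_pow_right (by norm_num) (by omega)
  have hkq : k + 1 = 2 ^ (2 * m + 1) := by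
    refine od_inj (by omega) (by omega) ?_
    rw [← hc, Cfsg.Agent.S1068.result hK]
    rfl
  have hcK : Nat.card K = k + 1 := by rw [Nat.card_eq_fintype_card, hK, hkq]
  have hpq : ¬ p ∣ k + 1 := by
    intro h
    rw [hkq] at h
    exact hp2 ((Nat.prime_dvd_prime_iff_eq hpp Nat.prime_two).1 (hpp.dvd_of_dvd_pow h))
  by_cases h1 : p ∣ k
  · -- `p ∣ q - 1`
    obtain ⟨φ, hφ⟩ := Cfsg.Agent.ChevalleyStructure.TwF4.TwistedFix.exists_rln hK
    have h2 := Cfsg.Agent.ChevalleyStructure.TwF4.Twisted.charP_two hK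
    let S := Cfsg.Agent.KFacts.TwF4.Inst.full hK hφ
    obtain ⟨d, hd⟩ := exists_prime_orderOf_dvd_card' (G := Kˣ) p (by
      rw [Nat.card_units, hcK, Nat.add_sub_cancel]
      exact h1)
    have hd1 : d ≠ 1 := by
      rintro rfl
      rw [orderOf_one] at hd
      exact hpp.one_lt.ne hd
    exact ⟨S.h 1 d, by rw [orderOf_h, hd], vz_torus S ⟨d, hd1⟩ rfl (Cfsg.Agent.H42.Deg.F4.hasSplit hiso) hd1⟩
  · obtain ⟨x, hx⟩ := exists_prime_orderOf_dvd_card' (G := ↥(twistedF4 K (2 ^ m))) p hd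
    have hdz : H665.NoPQ.HasDZ p ↥(twistedF4 K (2 ^ m)) := by
      by_cases h2 : p ∣ k + 2
      · have h3 : ¬ p ∣ (k + 1) ^ 2 + 1 := by
          intro h
          have e : (k + 1) ^ 2 + 1 = (k + 2) * k + 2 := by ring
          rw [e] at h
          exact hp2 ((Nat.prime_dvd_prime_iff_eq hpp Nat.prime_two).1 ((Nat.dvd_add_right (h2.mul_right _)).1 h))
        exact dz_of_dvd χ₂ (by
          rw [hc]
          exact (full_j hpp hpq h1 h3).trans ((dvd_j hq hk hj).trans ((Dvd.intro _ rfl).trans d₂)))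
      · exact dz_of_dvd χ₁ (by
          rw [hc]
          exact (full_i hpp hpq h1 h2).trans ((dvd_i hq hk hi).trans ((Dvd.intro _ rfl).trans d₁)))
    exact ⟨x, hx, H713.HasDZ.vz hdz (by rw [hx])⟩

/-- **The row of `²F₄(q)`, `q > 2`, elements of order `p`.** -/
theorem row {S : Type u} [Group S] [Finite S] [IsSimpleGroup S] (h : Lie.Iso2F4 S) {p : ℕ} [Fact p.Prime]
    (hp2 : p ≠ 2) (hd : p ∣ Nat.card S) : VOrdP p S := by
  obtain ⟨K, _, _, m, hm, hK, ⟨e⟩⟩ := h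
  have : Finite ↥(twistedF4 K (2 ^ m)) := Finite.of_equiv S e.toEquiv
  have : IsSimpleGroup ↥(twistedF4 K (2 ^ m)) := e.isSimpleGroup_congr.1 inferInstance
  rw [Nat.card_congr e.toEquiv] at hd
  exact (vOrdP_twF4 hm hK hp2 hd).mulEquiv e.symm

end Cfsg.Agent.H387.VO2.TwFFour
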